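import Cfsg.Agent.Lib.Spor.J1M.Data
import Cfsg.Agent.Lib.Spor.J1.Main

set_option autoImplicit false
set_option maxRecDepth 100000
set_option Elab.async false
set_option exponentiation.threshold 100000

namespace Cfsg.Agent.Spor.J1M
open Cfsg.Agent.PG Cfsg.Agent.Spor

theorem mcl4_0 : chkR P L 0 7 (Cfsg.Agent.Spor.J1.cl4_l) = true := by decide +kernel

theorem mcl3_0 : chkR P L 0 7 (Cfsg.Agent.Spor.J1.cl3_l) = true := by decide +kernel

theorem mcl2_0 : chkR P L 0 7 (Cfsg.Agent.Spor.J1.cl2_l) = true := by decide +kernel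

theorem mcl1_0 : chkR P L 0 7 (Cfsg.Agent.Spor.J1.cl1_l) = true := by decide +kernel

theorem mcl0_0 : chkR P L 0 7 (Cfsg.Agent.Spor.J1.cl0_l) = true := by decide +kernel

theorem gc1_0 : chkR P L 0 7 (genClaims [(2, 0x1010103000301030000030300020200), (3, 0x10102010102020003030000030300000300), (4, 0x10704070407050707), (5, 0x10704070705070506), (6, 0x10a080b0808), (7, 0x109090b080a09), (8, 0x10c), (9, 0x10102010101), (10, 0x107), (11, 0x10909), (12, 0x10f), (13, 0x110)]) = true := by decide +kernel

theorem gc2_0 : chkR P L 0 7 (genClaims [(0, 0x11a181614181212181a1413), (1, 0x11a16161a1517)]) = true := by decide +kernel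

theorem ne_0 : chkN P L ([(([gw 9], []), 0, 0)]) = true := by decide +kernel

end Cfsg.Agent.Spor.J1M
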