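import Cfsg.Agent.Lib.Spor.J1M.Data
import Cfsg.Agent.Lib.Spor.J1.Main
import Cfsg.Agent.Lib.Spor.J1M.C0

set_option autoImplicit false
set_option maxRecDepth 100000
set_option Elab.async false
set_option exponentiation.threshold 100000

namespace Cfsg.Agent.Spor.J1M
open Cfsg.Agent.PG Cfsg.Agent.Spor

noncomputable abbrev γ : ℕ → GL (Fin P.n) (ZMod P.p) := gam P L

theorem γ_of_le {j : ℕ} (h : L.length ≤ j) : γ j = 1 := gam_of_le P h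

theorem hγ : ∀ j, Cfsg.Agent.Spor.J1.A.length ≤ j → γ j = 1 := fun j hj => γ_of_le (by rw [Cfsg.Agent.Spor.J1.hlen] at hj; rw [lenL]; exact hj)

theorem lift5 : Lift Cfsg.Agent.Spor.J1.A γ 14 := lift_last fun j hj => hγ j (by rw [Cfsg.Agent.Spor.J1.hlen]; exact hj)

theorem mcl4 : ∀ c ∈ Cfsg.Agent.Spor.J1.cl4_l, HoldsG γ c :=
  (chkM_spec good mcl4_0)

theorem lift4 : Lift Cfsg.Agent.Spor.J1.A γ 13 :=
  lift_plain Cfsg.Agent.Spor.J1.hA hγ lift5 Cfsg.Agent.Spor.J1.ok4 Cfsg.Agent.Spor.J1.cl4 mcl4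

theorem mcl3 : ∀ c ∈ Cfsg.Agent.Spor.J1.cl3_l, HoldsG γ c :=
  (chkM_spec good mcl3_0)

theorem lift3 : Lift Cfsg.Agent.Spor.J1.A γ 12 :=
  lift_plain Cfsg.Agent.Spor.J1.hA hγ lift4 Cfsg.Agent.Spor.J1.ok3 Cfsg.Agent.Spor.J1.cl3 mcl3

theorem mcl2 : ∀ c ∈ Cfsg.Agent.Spor.J1.cl2_l, HoldsG γ c :=
  (chkM_spec good mcl2_0)

theorem lift2 : Lift Cfsg.Agent.Spor.J1.A γ 11 :=
  lift_dc Cfsg.Agent.Spor.J1.hA hγ lift3 Cfsg.Agent.Spor.J1.stab3 Cfsg.Agent.Spor.J1.ok2 Cfsg.Agent.Spor.J1.cl2 mcl2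

theorem mcl1 : ∀ c ∈ Cfsg.Agent.Spor.J1.cl1_l, HoldsG γ c :=
  (chkM_spec good mcl1_0)

theorem lift1 : Lift Cfsg.Agent.Spor.J1.A γ 10 :=
  lift_dc Cfsg.Agent.Spor.J1.hA hγ lift2 Cfsg.Agent.Spor.J1.stab2 Cfsg.Agent.Spor.J1.ok1 Cfsg.Agent.Spor.J1.cl1 mcl1

theorem mcl0 : ∀ c ∈ Cfsg.Agent.Spor.J1.cl0_l, HoldsG γ c :=
  (chkM_spec good mcl0_0)

theorem lift0 : Lift Cfsg.Agent.Spor.J1.A γ 9 :=
  lift_dc Cfsg.Agent.Spor.J1.hA hγ lift1 Cfsg.Agent.Spor.J1.stab1 Cfsg.Agent.Spor.J1.ok0 Cfsg.Agent.Spor.J1.cl0 mcl0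

theorem gc1 : ∀ c ∈ genClaims [(2, 0x1010103000301030000030300020200), (3, 0x10102010102020003030000030300000300), (4, 0x10704070407050707), (5, 0x10704070705070506), (6, 0x10a080b0808), (7, 0x109090b080a09), (8, 0x10c), (9, 0x10102010101), (10, 0x107), (11, 0x10909), (12, 0x10f), (13, 0x110)], HoldsG γ c :=
  (chkM_spec good gc1_0)

theorem gc2 : ∀ c ∈ genClaims [(0, 0x11a181614181212181a1413), (1, 0x11a16161a1517)], HoldsG γ c :=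
  (chkM_spec good gc2_0)

theorem ne : ∀ c ∈ ([(([gw 9], []), 0, 0)]).map Prod.fst, ¬ HoldsG γ c :=
  (chkN_spec good ne_0)

end Cfsg.Agent.Spor.J1M
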